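import Mathlib.RepresentationTheory.Character
import Mathlib.LinearAlgebra.Eigenspace.Semisimple
import Mathlib.LinearAlgebra.Semisimple
import Mathlib.FieldTheory.IsAlgClosed.Basic
import Mathlib.LinearAlgebra.Basis.VectorSpace
import Mathlib.RingTheory.RootsOfUnity.Complex
import Mathlib.Analysis.Complex.Polynomial.Basic
import Mathlib.Analysis.Complex.Convex
import Mathlib.Analysis.InnerProductSpace.Convex
import Mathlib.Analysis.Convex.StrictConvexSpace
import Mathlib.Analysis.InnerProductSpace.Basic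
import Cfsg.Prelude.Def_Characters

/-!
# Eigenbases of elements of finite order, bounds and integrality of character values
-/

namespace Cfsg.Agent.CharClifford

open Polynomial Module
open scoped ComplexConjugate

section Linear

variable {V : Type*} [AddCommGroup V] [Module ℂ V] [FiniteDimensional ℂ V]

/-- An endomorphism of finite order has an eigenbasis with roots of unity as eigenvalues. -/
theorem exists_eigenbasis_of_pow_eq_one (f : Module.End ℂ V) {n : ℕ} (hn : n ≠ 0)
    (hf : f ^ n = 1) :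
    ∃ (b : Basis (Fin (finrank ℂ V)) ℂ V) (μ : Fin (finrank ℂ V) → ℂ),
      (∀ i, μ i ^ n = 1) ∧ ∀ i, f (b i) = μ i • b i := by
  have hsep : (X ^ n - C (1 : ℂ)).Separable :=
    separable_X_pow_sub_C 1 (by exact_mod_cast hn) one_ne_zero
  have hss : f.IsSemisimple :=
    Module.End.isSemisimple_of_squarefree_aeval_eq_zero hsep.squarefree (by simp [hf])
  set s : Set V := {v | ∃ c : ℂ, f v = c • v} with hs
  have hspan : (⊤ : Submodule ℂ V) ≤ Submodule.span ℂ s := by
    rw [← hss.iSup_eigenspace_eq_top]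
    exact iSup_le fun c v hv =>
      Submodule.subset_span ⟨c, Module.End.mem_eigenspace_iff.mp hv⟩
  let b₀ := Basis.ofSpan hspan
  have := FiniteDimensional.fintypeBasisIndex b₀
  let b := b₀.reindex (Fintype.equivFinOfCardEq (Module.finrank_eq_card_basis b₀).symm)
  have hb : ∀ i, ∃ c : ℂ, f (b i) = c • b i := fun i => by
    apply Basis.ofSpan_subset hspan
    exact ⟨_, (Basis.reindex_apply _ _ _).symm⟩
  choose μ hμ using hb
  refine ⟨b, μ, fun i => ?_, hμ⟩
  have hp : ∀ k : ℕ, (f ^ k) (b i) = μ i ^ k • b i := by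
    intro k
    induction k with
    | zero => simp
    | succ k ih => rw [pow_succ', Module.End.mul_apply, ih, map_smul, hμ, smul_smul, ← pow_succ]
  have h1 := hp n
  rw [hf, Module.End.one_apply] at h1
  exact smul_left_injective ℂ (b.ne_zero i) (by simpa using h1.symm)

omit [FiniteDimensional ℂ V] in
theorem trace_of_eigenbasis {ι : Type*} [Fintype ι] (f : Module.End ℂ V) (b : Basis ι ℂ V)
    (μ : ι → ℂ) (h : ∀ i, f (b i) = μ i • b i) : LinearMap.trace ℂ V f = ∑ i, μ i := by
  classical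
  rw [LinearMap.trace_eq_matrix_trace ℂ b, Matrix.trace]
  refine Finset.sum_congr rfl fun i _ => ?_
  simp [LinearMap.toMatrix_apply, h]

end Linear

section Rep

variable {G : Type*} [Group G] {V : Type*} [AddCommGroup V] [Module ℂ V] [FiniteDimensional ℂ V]
  (ρ : Representation ℂ G V)

/-- The eigenvalue list of `ρ g`: all values `χ (g ^ m)` are power sums of roots of unity. -/
theorem exists_eigenvalues (g : G) {n : ℕ} (hn : n ≠ 0) (hg : g ^ n = 1) :
    ∃ (b : Basis (Fin (finrank ℂ V)) ℂ V) (μ : Fin (finrank ℂ V) → ℂ),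
      (∀ i, μ i ^ n = 1) ∧ (∀ i, ρ g (b i) = μ i • b i) ∧
        ∀ m : ℕ, ρ.character (g ^ m) = ∑ i, μ i ^ m := by
  obtain ⟨b, μ, hμ, hb⟩ := exists_eigenbasis_of_pow_eq_one (ρ g) hn
    (by rw [← map_pow, hg, map_one])
  refine ⟨b, μ, hμ, hb, fun m => trace_of_eigenbasis _ b _ fun i => ?_⟩
  induction m with
  | zero => simp
  | succ k ih =>
    rw [pow_succ' g, map_mul, Module.End.mul_apply, ih, map_smul, hb, smul_smul, ← pow_succ]

theorem orderOf_ne_zero [Finite G] (g : G) : orderOf g ≠ 0 :=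
  (orderOf_pos g).ne'

/-- Character values are algebraic integers. -/
theorem isIntegral_character [Finite G] (g : G) : IsIntegral ℤ (ρ.character g) := by
  obtain ⟨b, μ, hμ, -, h⟩ := exists_eigenvalues ρ g (orderOf_ne_zero g) (pow_orderOf_eq_one g)
  rw [← pow_one g, h]
  exact IsIntegral.sum _ fun i _ =>
    (IsIntegral.of_pow (Nat.pos_of_ne_zero (orderOf_ne_zero g))
      (by rw [hμ]; exact isIntegral_one)).pow 1

/-- `χ g⁻¹` is the complex conjugate of `χ g`. -/
theorem character_inv [Finite G] (g : G) : ρ.character g⁻¹ = conj (ρ.character g) := by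
  have hn := orderOf_ne_zero g
  obtain ⟨b, μ, hμ, -, h⟩ := exists_eigenvalues ρ g hn (pow_orderOf_eq_one g)
  have hinv : g⁻¹ = g ^ (orderOf g - 1) := by
    rw [inv_eq_iff_mul_eq_one, ← pow_succ', Nat.sub_add_cancel (Nat.pos_of_ne_zero hn),
      pow_orderOf_eq_one]
  rw [hinv, h, ← pow_one g, h, map_sum, pow_one]
  refine Finset.sum_congr rfl fun i _ => ?_
  have hi : μ i ≠ 0 := fun h0 => by simpa [h0, hn] using hμ i
  rw [pow_one, ← Complex.inv_eq_conj (Complex.norm_eq_one_of_pow_eq_one (hμ i) hn)]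
  exact eq_inv_of_mul_eq_one_left (by rw [← pow_succ, Nat.sub_add_cancel (Nat.pos_of_ne_zero hn), hμ])

/-- `|χ g| ≤ χ 1`. -/
theorem norm_character_le [Finite G] (g : G) : ‖ρ.character g‖ ≤ finrank ℂ V := by
  have hn := orderOf_ne_zero g
  obtain ⟨b, μ, hμ, -, h⟩ := exists_eigenvalues ρ g hn (pow_orderOf_eq_one g)
  rw [← pow_one g, h]
  refine (norm_sum_le _ _).trans (le_of_eq ?_)
  simp [Complex.norm_eq_one_of_pow_eq_one (hμ _) hn]

/-- If `|χ g| = χ 1`, then `ρ g` is a scalar. -/
theorem exists_scalar_of_norm_character_eq [Finite G] (g : G)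
    (hg : ‖ρ.character g‖ = finrank ℂ V) : ∃ c : ℂ, ρ g = c • 1 := by
  classical
  have hn := orderOf_ne_zero g
  obtain ⟨b, μ, hμ, hb, h⟩ := exists_eigenvalues ρ g hn (pow_orderOf_eq_one g)
  have h1 : ∀ i, ‖μ i‖ = 1 := fun i => Complex.norm_eq_one_of_pow_eq_one (hμ i) hn
  have hall : ∀ i j, μ i = μ j := by
    intro i j
    by_contra hij
    have hne : i ≠ j := fun e => hij (by rw [e])
    have hs : ∑ k, μ k = (μ i + μ j) + ∑ k ∈ (Finset.univ.erase i).erase j, μ k := by
      rw [← Finset.add_sum_erase _ _ (Finset.mem_univ i),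
        ← Finset.add_sum_erase _ _ (Finset.mem_erase.mpr ⟨Ne.symm hne, Finset.mem_univ j⟩)]
      ring
    have hlt : ‖μ i + μ j‖ < ‖μ i‖ + ‖μ j‖ := by
      refine norm_add_lt_of_not_sameRay fun hray => hij ?_
      exact (sameRay_iff_of_norm_eq (by rw [h1, h1])).mp hray
    have h3 := norm_add_le (μ i + μ j) (∑ k ∈ (Finset.univ.erase i).erase j, μ k)
    have h4 : ‖∑ k ∈ (Finset.univ.erase i).erase j, μ k‖ ≤
        ((Finset.univ.erase i).erase j).card := by
      refine (norm_sum_le _ _).trans (le_of_eq ?_)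
      simp [h1]
    have hc : (((Finset.univ.erase i).erase j).card : ℝ) + 2 = finrank ℂ V := by
      have e1 := Finset.card_erase_add_one (Finset.mem_univ i)
      have e2 := Finset.card_erase_add_one
        (Finset.mem_erase.mpr ⟨Ne.symm hne, Finset.mem_univ j⟩)
      rw [Finset.card_univ, Fintype.card_fin] at e1
      exact_mod_cast (by omega :
        ((Finset.univ.erase i).erase j).card + 2 = finrank ℂ V)
    rw [← pow_one g, h] at hg
    simp only [pow_one] at hg
    rw [hs] at hg
    rw [h1, h1] at hlt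
    linarith
  rcases isEmpty_or_nonempty (Fin (finrank ℂ V)) with he | ⟨⟨i0⟩⟩
  · exact ⟨1, b.ext fun i => isEmptyElim i⟩
  · exact ⟨μ i0, b.ext fun i => by simp [hb, hall i i0]⟩

/-- `χ g = χ 1` exactly on the kernel. -/
theorem eq_one_of_character_eq_finrank [Finite G] (g : G)
    (hg : ρ.character g = finrank ℂ V) : ρ g = 1 := by
  obtain ⟨c, hc⟩ := exists_scalar_of_norm_character_eq ρ g (by rw [hg, Complex.norm_natCast])
  rcases eq_or_ne (finrank ℂ V) 0 with h0 | h0
  · have : Subsingleton V := Module.finrank_zero_iff.mp h0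
    exact LinearMap.ext fun v => Subsingleton.elim _ _
  · rw [Representation.character, hc, map_smul, LinearMap.trace_one, smul_eq_mul] at hg
    have : c = 1 := by simpa [h0] using hg
    rw [hc, this, one_smul]

end Rep

section IsChar

variable {G : Type*} [Group G] [Finite G] {χ : G → ℂ}

theorem isIntegral_of_isCharacter (hχ : Cfsg.IsCharacter G χ) (g : G) :
    IsIntegral ℤ (χ g) := by
  obtain ⟨n, ρ, rfl⟩ := hχ
  exact isIntegral_character ρ g

theorem isIntegral_of_isIrrCharacter (hχ : Cfsg.IsIrrCharacter G χ) (g : G) :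
    IsIntegral ℤ (χ g) := by
  obtain ⟨n, ρ, -, rfl⟩ := hχ
  exact isIntegral_character ρ g

theorem isIntegral_of_isGeneralizedCharacter (hχ : Cfsg.IsGeneralizedCharacter G χ) (g : G) :
    IsIntegral ℤ (χ g) := by
  obtain ⟨a, b, ha, hb, rfl⟩ := hχ
  exact (isIntegral_of_isCharacter ha g).sub (isIntegral_of_isCharacter hb g)

theorem conj_of_isCharacter (hχ : Cfsg.IsCharacter G χ) (g : G) : conj (χ g) = χ g⁻¹ := by
  obtain ⟨n, ρ, rfl⟩ := hχ
  exact (character_inv ρ g).symm

theorem conj_of_isGeneralizedCharacter (hχ : Cfsg.IsGeneralizedCharacter G χ) (g : G) :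
    conj (χ g) = χ g⁻¹ := by
  obtain ⟨a, b, ha, hb, rfl⟩ := hχ
  simp [conj_of_isCharacter ha g, conj_of_isCharacter hb g]

omit [Finite G] in
theorem isCharacter_of_isIrrCharacter (hχ : Cfsg.IsIrrCharacter G χ) : Cfsg.IsCharacter G χ := by
  obtain ⟨n, ρ, -, h⟩ := hχ
  exact ⟨n, ρ, h⟩

end IsChar

end Cfsg.Agent.CharClifford
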