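import Mathlib.Algebra.MonoidAlgebra.Basic
import Mathlib.RingTheory.IntegralClosure.IntegrallyClosed
import Mathlib.RingTheory.Polynomial.RationalRoot
import Mathlib.RingTheory.PrincipalIdealDomain
import Mathlib.GroupTheory.QuotientGroup.Basic
import Mathlib.Algebra.Group.Conj
import Mathlib.GroupTheory.GroupAction.ConjAct
import Cfsg.Agent.Lib.CharClifford.Eigen

/-!
# Central characters and degrees of irreducible representations
-/

namespace Cfsg.Agent.CharClifford

open Module
open scoped ComplexConjugate MonoidAlgebra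

section Basic

variable {G : Type*} [Group G] {V : Type*} [AddCommGroup V] [Module ℂ V]
  [FiniteDimensional ℂ V] (ρ : Representation ℂ G V) [ρ.IsIrreducible]

include ρ in
theorem finrank_pos_of_irreducible : 0 < finrank ℂ V := by
  have : Nontrivial (Subrepresentation ρ) := inferInstance
  by_contra h
  have : Subsingleton V := (Module.finrank_zero_iff (R := ℂ)).mp (by omega)
  have h' : Subsingleton (Subrepresentation ρ) := Subrepresentation.toSubmodule_injective.subsingleton
  exact not_subsingleton _ h'

/-- Schur: an endomorphism commuting with an irreducible representation is a scalar. -/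
theorem exists_scalar_of_commute (f : V →ₗ[ℂ] V) (hf : ∀ g, Commute f (ρ g)) :
    ∃ c : ℂ, f = c • 1 := by
  let F : Representation.IntertwiningMap ρ ρ := ⟨f, fun g => hf g⟩
  obtain ⟨c, hc⟩ :=
    (Representation.IsIrreducible.algebraMap_intertwiningMap_bijective_of_isAlgClosed
      (ρ := ρ)).surjective F
  exact ⟨c, by
    have := congrArg Representation.IntertwiningMap.toLinearMap hc.symm
    rw [show F.toLinearMap = f from rfl] at this
    rw [this]; rfl⟩

theorem scalar_eq_of_trace {c : ℂ} {f : V →ₗ[ℂ] V} (hf : f = c • 1) :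
    LinearMap.trace ℂ V f = c * finrank ℂ V := by
  rw [hf, map_smul, LinearMap.trace_one, smul_eq_mul]

/-- Central elements act as scalars. -/
theorem exists_scalar_of_mem_center {z : G} (hz : z ∈ Subgroup.center G) :
    ∃ c : ℂ, ρ z = c • 1 :=
  exists_scalar_of_commute ρ (ρ z) fun g => by
    rw [Commute, SemiconjBy, ← map_mul, ← map_mul, Subgroup.mem_center_iff.mp hz g]

variable [Fintype G]

theorem sum_character_mul_inv : ∑ g : G, ρ.character g * ρ.character g⁻¹ = (Nat.card G : ℂ) := by
  have hne : (Nat.card G : ℂ) ≠ 0 := by exact_mod_cast Nat.card_pos.ne'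
  let : Invertible (Nat.card G : ℂ) := invertibleOfNonzero hne
  have h := Representation.char_orthonormal ρ ρ
  rw [if_pos ⟨Representation.Equiv.refl ρ⟩, inv_mul_eq_one₀ hne] at h
  exact h.symm

open Classical in
/-- The conjugacy class sum attached to `K`, as an endomorphism of `V`. -/
noncomputable def classSum (K : ConjClasses G) : V →ₗ[ℂ] V :=
  ∑ g ∈ Finset.univ.filter (fun g => ConjClasses.mk g = K), ρ g

omit [FiniteDimensional ℂ V] [ρ.IsIrreducible] in
theorem classSum_commute (K : ConjClasses G) (x : G) : Commute (classSum ρ K) (ρ x) := by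
  classical
  rw [Commute, SemiconjBy, classSum, Finset.sum_mul, Finset.mul_sum]
  refine Finset.sum_nbij' (fun g => x⁻¹ * g * x) (fun g => x * g * x⁻¹) ?_ ?_ ?_ ?_ ?_
  · intro g hg
    simp only [Finset.mem_filter, Finset.mem_univ, true_and] at hg ⊢
    rw [← hg, ConjClasses.mk_eq_mk_iff_isConj, isConj_iff]
    exact ⟨x, by group⟩
  · intro g hg
    simp only [Finset.mem_filter, Finset.mem_univ, true_and] at hg ⊢
    rw [← hg, ConjClasses.mk_eq_mk_iff_isConj, isConj_iff]
    exact ⟨x⁻¹, by group⟩
  · intro g _; group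
  · intro g _; group
  · intro g _
    rw [← map_mul, ← map_mul]
    congr 1
    group

/-- The central character `ω(K)` of `ρ` at a conjugacy class `K`. -/
noncomputable def omega (K : ConjClasses G) : ℂ :=
  Classical.choose (exists_scalar_of_commute ρ (classSum ρ K) (classSum_commute ρ K))

theorem classSum_eq (K : ConjClasses G) : classSum ρ K = omega ρ K • 1 :=
  Classical.choose_spec (exists_scalar_of_commute ρ (classSum ρ K) (classSum_commute ρ K))

open Classical in
theorem omega_mul_finrank (g : G) :
    omega ρ (ConjClasses.mk g) * finrank ℂ V =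
      (Finset.univ.filter (fun x => ConjClasses.mk x = ConjClasses.mk g)).card * ρ.character g := by
  rw [← scalar_eq_of_trace (classSum_eq ρ _), classSum, map_sum]
  have : ∀ x ∈ Finset.univ.filter (fun x => ConjClasses.mk x = ConjClasses.mk g),
      LinearMap.trace ℂ V (ρ x) = ρ.character g := by
    intro x hx
    obtain ⟨c, hc⟩ := isConj_iff.mp
      (ConjClasses.mk_eq_mk_iff_isConj.mp (Finset.mem_filter.mp hx).2).symm
    rw [← hc]
    exact Representation.char_conj ρ g c
  rw [Finset.sum_congr rfl this, Finset.sum_const, nsmul_eq_mul]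

/-- Central character values are algebraic integers. -/
theorem isIntegral_omega (K : ConjClasses G) : IsIntegral ℤ (omega ρ K) := by
  classical
  let φ : ℤ[G] →ₐ[ℤ] Module.End ℂ V := MonoidAlgebra.lift ℤ (Module.End ℂ V) G ρ
  let s : ℤ[G] := ∑ g ∈ Finset.univ.filter (fun g => ConjClasses.mk g = K), MonoidAlgebra.single g 1
  have hs : φ s = algebraMap ℂ (Module.End ℂ V) (omega ρ K) := by
    rw [Algebra.algebraMap_eq_smul_one, ← classSum_eq ρ K, classSum, map_sum]
    exact Finset.sum_congr rfl fun g _ => by simp [φ]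
  have hfin : Module.Finite ℤ ℤ[G] := inferInstance
  have h := (IsIntegral.of_finite ℤ s).map φ
  rw [hs] at h
  have : Nontrivial V := Module.nontrivial_of_finrank_pos (finrank_pos_of_irreducible ρ)
  exact (isIntegral_algebraMap_iff (A := ℂ) (B := Module.End ℂ V)
    (FaithfulSMul.algebraMap_injective ℂ (Module.End ℂ V))).mp h

open Classical in
theorem sum_character_mul_inv_over (T : Finset (ConjClasses G)) :
    ∑ g ∈ Finset.univ.filter (fun g => ConjClasses.mk g ∈ T),
        ρ.character g * ρ.character g⁻¹ =
      finrank ℂ V * ∑ K ∈ T, omega ρ K * ρ.character (Function.surjInv ConjClasses.mk_surjective K)⁻¹ := by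
  rw [← Finset.sum_fiberwise_of_maps_to (g := ConjClasses.mk)
    (fun g hg => (Finset.mem_filter.mp hg).2), Finset.mul_sum]
  refine Finset.sum_congr rfl fun K hK => ?_
  set r := Function.surjInv ConjClasses.mk_surjective K
  have hr : ConjClasses.mk r = K := Function.surjInv_eq _ K
  have hval : ∀ g, ConjClasses.mk g = K →
      ρ.character g = ρ.character r ∧ ρ.character g⁻¹ = ρ.character r⁻¹ := by
    intro g hg
    obtain ⟨c, hc⟩ := isConj_iff.mp (ConjClasses.mk_eq_mk_iff_isConj.mp (hr.trans hg.symm))
    constructor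
    · rw [← hc]; exact Representation.char_conj ρ r c
    · rw [← hc, show (c * r * c⁻¹)⁻¹ = c * r⁻¹ * c⁻¹ by group]
      exact Representation.char_conj ρ r⁻¹ c
  have e := omega_mul_finrank ρ r
  rw [hr] at e
  rw [Finset.filter_filter, Finset.filter_congr (q := fun g => ConjClasses.mk g = K)
    (fun g _ => ⟨And.right, fun h => ⟨h ▸ hK, h⟩⟩),
    Finset.sum_congr rfl fun g hg => by
      rw [(hval g (Finset.mem_filter.mp hg).2).1, (hval g (Finset.mem_filter.mp hg).2).2],
    Finset.sum_const, nsmul_eq_mul, ← mul_assoc, ← e]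
  ring

end Basic

/-- A natural quotient which is an algebraic integer gives divisibility. -/
theorem dvd_of_mul_isIntegral {a b : ℕ} {x : ℂ} (hx : IsIntegral ℤ x) (h : (b : ℂ) = a * x) :
    a ∣ b := by
  rcases eq_or_ne a 0 with ha | ha
  · simp [ha] at h; simp [ha, h]
  have hq : x = (((b : ℚ) / a : ℚ) : ℂ) := by
    push_cast
    rw [eq_div_iff (by exact_mod_cast ha), h, mul_comm]
  rw [hq] at hx
  have h' : IsIntegral ℤ ((b : ℚ) / a) :=
    (isIntegral_algebraMap_iff (A := ℚ) (B := ℂ) (algebraMap ℚ ℂ).injective).mp hx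
  obtain ⟨k, hk⟩ := IsIntegrallyClosed.isIntegral_iff.mp h'
  have : (b : ℚ) = a * k := by
    simp only [algebraMap_int_eq, eq_intCast] at hk
    rw [hk, mul_div_cancel₀ _ (by exact_mod_cast ha)]
  exact Int.natCast_dvd_natCast.mp ⟨k, by exact_mod_cast this⟩

section Degree

variable {G : Type*} [Group G] [Finite G] {V : Type*} [AddCommGroup V] [Module ℂ V]
  [FiniteDimensional ℂ V] (ρ : Representation ℂ G V) [ρ.IsIrreducible]

include ρ in
/-- The degree of an irreducible representation divides the group order. -/
theorem finrank_dvd_card : finrank ℂ V ∣ Nat.card G := by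
  classical
  have := Fintype.ofFinite G
  have : Finite (ConjClasses G) := Finite.of_surjective _ ConjClasses.mk_surjective
  have := Fintype.ofFinite (ConjClasses G)
  refine dvd_of_mul_isIntegral (x := ∑ K ∈ (Finset.univ : Finset (ConjClasses G)),
    omega ρ K * ρ.character (Function.surjInv ConjClasses.mk_surjective K)⁻¹) ?_ ?_
  · exact IsIntegral.sum _ fun K _ => (isIntegral_omega ρ K).mul (isIntegral_character ρ _)
  · rw [← sum_character_mul_inv_over, ← sum_character_mul_inv ρ]
    simp

/-- For a faithful irreducible representation the degree divides the index of the centre. -/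
theorem finrank_dvd_index_center_of_injective (hinj : Function.Injective ρ) :
    finrank ℂ V ∣ (Subgroup.center G).index := by
  classical
  have := Fintype.ofFinite G
  have : Finite (ConjClasses G) := Finite.of_surjective _ ConjClasses.mk_surjective
  have := Fintype.ofFinite (ConjClasses G)
  set Z := Subgroup.center G with hZ
  have : Finite (ConjClasses (G ⧸ Z)) := Finite.of_surjective _ ConjClasses.mk_surjective
  have := Fintype.ofFinite (ConjClasses (G ⧸ Z))
  let rep : ConjClasses G → G := Function.surjInv ConjClasses.mk_surjective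
  let f : ConjClasses G → ℂ := fun K => omega ρ K * ρ.character (rep K)⁻¹
  let π : ConjClasses G → ConjClasses (G ⧸ Z) := ConjClasses.map (QuotientGroup.mk' Z)
  have hd : (finrank ℂ V : ℂ) ≠ 0 := by exact_mod_cast (finrank_pos_of_irreducible ρ).ne'
  have hf : ∀ g, f (ConjClasses.mk g) * finrank ℂ V =
      (Finset.univ.filter (fun x => ConjClasses.mk x = ConjClasses.mk g)).card *
        (ρ.character g * ρ.character g⁻¹) := by
    intro g
    obtain ⟨c, hc⟩ := isConj_iff.mp (ConjClasses.mk_eq_mk_iff_isConj.mp
      (Function.surjInv_eq ConjClasses.mk_surjective (ConjClasses.mk g)).symm)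
    have hr : ρ.character (rep (ConjClasses.mk g))⁻¹ = ρ.character g⁻¹ := by
      rw [show rep (ConjClasses.mk g) = c * g * c⁻¹ from hc.symm,
        show (c * g * c⁻¹)⁻¹ = c * g⁻¹ * c⁻¹ by group]
      exact Representation.char_conj ρ g⁻¹ c
    have e := omega_mul_finrank ρ g
    simp only [f, hr]
    rw [mul_right_comm, e]
    ring
  -- translating a class by a central element
  have hmul : ∀ g z, z ∈ Z → f (ConjClasses.mk (g * z)) = f (ConjClasses.mk g) ∧
      ((ρ.character (g * z) = 0) ↔ (ρ.character g = 0)) := by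
    intro g z hz
    obtain ⟨c, hc⟩ := exists_scalar_of_mem_center ρ hz
    obtain ⟨c', hc'⟩ := exists_scalar_of_mem_center ρ (inv_mem hz)
    have hcc : c * c' = 1 := by
      have h1 : ρ z * ρ z⁻¹ = 1 := by rw [← map_mul, mul_inv_cancel, map_one]
      rw [hc, hc', smul_mul_smul_comm, one_mul] at h1
      have := scalar_eq_of_trace (V := V) (c := c * c') rfl
      rw [h1, LinearMap.trace_one] at this
      exact mul_right_cancel₀ hd (by rw [← this, one_mul])
    have h1 : ρ.character (g * z) = c * ρ.character g := by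
      simp only [Representation.character, map_mul, hc, mul_smul_comm, mul_one, map_smul, smul_eq_mul]
    have h2 : ρ.character (g * z)⁻¹ = c' * ρ.character g⁻¹ := by
      simp only [mul_inv_rev, Representation.character, map_mul, hc', smul_mul_assoc, one_mul,
        map_smul, smul_eq_mul]
    have hcard : (Finset.univ.filter (fun x => ConjClasses.mk x = ConjClasses.mk (g * z))).card =
        (Finset.univ.filter (fun x => ConjClasses.mk x = ConjClasses.mk g)).card := by
      have hzc : ∀ y, y * z = z * y := Subgroup.mem_center_iff.mp hz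
      have hzi : ∀ y, y * z⁻¹ = z⁻¹ * y := Subgroup.mem_center_iff.mp (inv_mem hz)
      refine Finset.card_bij' (fun x _ => x * z⁻¹) (fun x _ => x * z) ?_ ?_ ?_ ?_
      · intro x hx
        simp only [Finset.mem_filter, Finset.mem_univ, true_and,
          ConjClasses.mk_eq_mk_iff_isConj, isConj_iff] at hx ⊢
        obtain ⟨w, hw⟩ := hx
        refine ⟨w, ?_⟩
        calc w * (x * z⁻¹) * w⁻¹ = (w * x) * (z⁻¹ * w⁻¹) := by group
          _ = (w * x) * (w⁻¹ * z⁻¹) := by rw [hzi]
          _ = (w * x * w⁻¹) * z⁻¹ := by group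
          _ = g := by rw [hw]; group
      · intro x hx
        simp only [Finset.mem_filter, Finset.mem_univ, true_and,
          ConjClasses.mk_eq_mk_iff_isConj, isConj_iff] at hx ⊢
        obtain ⟨w, hw⟩ := hx
        refine ⟨w, ?_⟩
        calc w * (x * z) * w⁻¹ = (w * x) * (z * w⁻¹) := by group
          _ = (w * x) * (w⁻¹ * z) := by rw [hzc]
          _ = (w * x * w⁻¹) * z := by group
          _ = g * z := by rw [hw]
      · intro x _; group
      · intro x _; group
    refine ⟨mul_right_cancel₀ hd ?_, by rw [h1]; simp [left_ne_zero_of_mul_eq_one hcc]⟩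
    rw [hf, hf, hcard, h1, h2]
    linear_combination (((Finset.univ.filter
      (fun x => ConjClasses.mk x = ConjClasses.mk g)).card : ℂ) *
        (ρ.character g * ρ.character g⁻¹)) * hcc
  -- fibres of `π`
  have hfib : ∀ L : ConjClasses (G ⧸ Z), ∃ x : ℂ, IsIntegral ℤ x ∧
      ∑ K ∈ Finset.univ.filter (fun K => π K = L), f K = Nat.card Z * x := by
    intro L
    obtain ⟨y, rfl⟩ := ConjClasses.mk_surjective L
    obtain ⟨g, rfl⟩ := QuotientGroup.mk'_surjective Z y
    have himg : Finset.univ.filter (fun K => π K = ConjClasses.mk (QuotientGroup.mk' Z g)) =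
        (Finset.univ : Finset Z).image (fun z : Z => ConjClasses.mk (g * z)) := by
      ext K
      simp only [Finset.mem_filter, Finset.mem_univ, true_and, Finset.mem_image]
      constructor
      · intro hK
        obtain ⟨x, rfl⟩ := ConjClasses.mk_surjective K
        change ConjClasses.mk (QuotientGroup.mk' Z x) = _ at hK
        obtain ⟨w, hw⟩ := isConj_iff.mp (ConjClasses.mk_eq_mk_iff_isConj.mp hK)
        obtain ⟨v, rfl⟩ := QuotientGroup.mk'_surjective Z w
        rw [← map_inv, ← map_mul, ← map_mul, QuotientGroup.mk'_eq_mk'] at hw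
        obtain ⟨z, hz, hz'⟩ := hw
        refine ⟨⟨z⁻¹, inv_mem hz⟩, ConjClasses.mk_eq_mk_iff_isConj.mpr
          (isConj_iff.mpr ⟨v⁻¹, ?_⟩)⟩
        change v⁻¹ * (g * z⁻¹) * v⁻¹⁻¹ = x
        rw [← hz']
        group
      · rintro ⟨z, rfl⟩
        change ConjClasses.mk (QuotientGroup.mk' Z (g * z)) = _
        rw [map_mul, show QuotientGroup.mk' Z (z : G) = 1 from
          (QuotientGroup.eq_one_iff (N := Z) (z : G)).mpr z.2, mul_one]
    rw [himg]
    by_cases h0 : ρ.character g = 0
    · refine ⟨0, isIntegral_zero, ?_⟩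
      rw [mul_zero]
      refine Finset.sum_eq_zero fun K hK => ?_
      obtain ⟨z, -, rfl⟩ := Finset.mem_image.mp hK
      refine mul_right_cancel₀ hd ?_
      rw [hf, (hmul g z z.2).2.mpr h0]
      ring
    · refine ⟨f (ConjClasses.mk g),
        (isIntegral_omega ρ _).mul (isIntegral_character ρ _), ?_⟩
      rw [Finset.sum_image, Finset.sum_congr rfl (fun (z : Z) _ => (hmul g z z.2).1), Finset.sum_const,
        Finset.card_univ, nsmul_eq_mul, Nat.card_eq_fintype_card]
      intro z₁ _ z₂ _ h
      obtain ⟨w, hw⟩ := isConj_iff.mp (ConjClasses.mk_eq_mk_iff_isConj.mp h)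
      have hch := Representation.char_conj ρ (g * z₁) w
      rw [hw] at hch
      obtain ⟨c₁, hc₁⟩ := exists_scalar_of_mem_center ρ z₁.2
      obtain ⟨c₂, hc₂⟩ := exists_scalar_of_mem_center ρ z₂.2
      simp only [Representation.character, map_mul, hc₁, hc₂, mul_smul_comm, mul_one, map_smul,
        smul_eq_mul] at hch
      have hc : c₂ = c₁ := mul_right_cancel₀ h0 hch
      exact Subtype.ext (hinj (by rw [hc₁, hc₂, hc]))
  choose x hx hxsum using hfib
  refine dvd_of_mul_isIntegral (x := ∑ L, x L) (IsIntegral.sum _ fun L _ => hx L) ?_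
  have hcardZ : (Nat.card Z : ℂ) ≠ 0 := by exact_mod_cast Nat.card_pos.ne'
  apply mul_left_cancel₀ hcardZ
  calc (Nat.card Z : ℂ) * (Z.index : ℂ) = (Nat.card G : ℂ) := by
        exact_mod_cast Z.card_mul_index
    _ = finrank ℂ V * ∑ K ∈ (Finset.univ : Finset (ConjClasses G)), f K := by
        rw [← sum_character_mul_inv ρ, ← sum_character_mul_inv_over]
        simp
    _ = finrank ℂ V * ∑ L, (Nat.card Z : ℂ) * x L := by
        rw [← Finset.sum_fiberwise Finset.univ π f, Finset.sum_congr rfl fun L _ => hxsum L]
    _ = _ := by rw [← Finset.mul_sum]; ring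

omit [Finite G] [FiniteDimensional ℂ V] [ρ.IsIrreducible] in
/-- Irreducibility passes along surjective homomorphisms. -/
theorem irreducible_of_comp {H : Type*} [Group H] (φ : G →* H) (hφ : Function.Surjective φ)
    (σ : Representation ℂ H V) (hσ : ∀ g, σ (φ g) = ρ g) [ρ.IsIrreducible] :
    σ.IsIrreducible := by
  let e : Subrepresentation σ ≃o Subrepresentation ρ :=
    { toFun := fun W => ⟨W.toSubmodule, fun g v hv => by
        rw [← hσ]; exact W.apply_mem_toSubmodule _ hv⟩
      invFun := fun W => ⟨W.toSubmodule, fun h v hv => by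
        obtain ⟨g, rfl⟩ := hφ h
        rw [hσ]; exact W.apply_mem_toSubmodule _ hv⟩
      left_inv := fun W => rfl
      right_inv := fun W => rfl
      map_rel_iff' := Iff.rfl }
  exact e.isSimpleOrder_iff.mpr inferInstance

include ρ in
/-- The degree of an irreducible representation divides the index of the centre. -/
theorem finrank_dvd_index_center : finrank ℂ V ∣ (Subgroup.center G).index := by
  let K : Subgroup G := MonoidHom.ker ρ
  let σ : Representation ℂ (G ⧸ K) V := QuotientGroup.lift K ρ le_rfl
  have : σ.IsIrreducible :=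
    irreducible_of_comp ρ (QuotientGroup.mk' K) (QuotientGroup.mk'_surjective K) σ fun g => rfl
  have hinj : Function.Injective σ := by
    refine (injective_iff_map_eq_one σ).mpr fun a ha => ?_
    obtain ⟨g, rfl⟩ := QuotientGroup.mk'_surjective K a
    exact (QuotientGroup.eq_one_iff g).mpr ha
  refine (finrank_dvd_index_center_of_injective σ hinj).trans ?_
  refine (Subgroup.index_dvd_of_le ?_).trans
    ((Subgroup.center G).index_map_dvd (QuotientGroup.mk'_surjective K))
  rintro _ ⟨z, hz, rfl⟩
  refine Subgroup.mem_center_iff.mpr fun a => ?_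
  obtain ⟨g, rfl⟩ := QuotientGroup.mk'_surjective K a
  rw [← map_mul, ← map_mul, Subgroup.mem_center_iff.mp hz g]

end Degree

section IsChar

variable {G : Type*} [Group G] [Finite G] {χ : G → ℂ}

/-- An irreducible character has degree a positive divisor of `|G|`. -/
theorem exists_degree_dvd_card (hχ : Cfsg.IsIrrCharacter G χ) :
    ∃ d : ℕ, 0 < d ∧ d ∣ Nat.card G ∧ χ 1 = d := by
  obtain ⟨n, ρ, hρ, rfl⟩ := hχ
  exact ⟨_, finrank_pos_of_irreducible ρ, finrank_dvd_card ρ, ρ.char_one⟩

/-- An irreducible character has degree dividing the index of the centre. -/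
theorem exists_degree_dvd_index_center (hχ : Cfsg.IsIrrCharacter G χ) :
    ∃ d : ℕ, 0 < d ∧ d ∣ (Subgroup.center G).index ∧ χ 1 = d := by
  obtain ⟨n, ρ, hρ, rfl⟩ := hχ
  exact ⟨_, finrank_pos_of_irreducible ρ, finrank_dvd_index_center ρ, ρ.char_one⟩

omit [Finite G] in
open Classical in
/-- `|K| χ(g) / χ(1)` is an algebraic integer. -/
theorem isIntegral_class_mul_div [Fintype G] (hχ : Cfsg.IsIrrCharacter G χ) (g : G) :
    IsIntegral ℤ
      ((Finset.univ.filter (fun x => ConjClasses.mk x = ConjClasses.mk g)).card * χ g / χ 1) := by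
  obtain ⟨n, ρ, hρ, rfl⟩ := hχ
  rw [← omega_mul_finrank ρ g, ρ.char_one, mul_div_cancel_right₀]
  · exact isIntegral_omega ρ _
  · exact_mod_cast (finrank_pos_of_irreducible ρ).ne'

end IsChar

end Cfsg.Agent.CharClifford
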