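import Mathlib.RingTheory.AlgebraicIndependent.TranscendenceBasis
import Mathlib.RingTheory.AlgebraicIndependent.Adjoin
import Mathlib.FieldTheory.AlgebraicClosure
import Mathlib.FieldTheory.Normal.Basic
import Mathlib.FieldTheory.Galois.Basic
import Mathlib.FieldTheory.Galois.Infinite
import Mathlib.RingTheory.RootsOfUnity.Minpoly
import Mathlib.RingTheory.Polynomial.Cyclotomic.Roots
import Mathlib.RingTheory.IntegralClosure.IntegrallyClosed
import Cfsg.Agent.Lib.CharClifford.Eigen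

/-!
# Galois action on character values

Ring endomorphisms of `ℂ` act on character values through power maps.
-/

namespace Cfsg.Agent.CharClifford

open Polynomial Module

attribute [local instance high] IntermediateField.algebra'

/-- Lifting a ring homomorphism along an algebraic extension into an algebraically closed field. -/
theorem exists_ringHom_lift {R S M : Type*} [CommRing R] [CommRing S] [IsDomain S] [Field M]
    [IsAlgClosed M] [Algebra R S] [FaithfulSMul R S] [Algebra.IsAlgebraic R S]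
    (φ : R →+* M) (hφ : Function.Injective φ) :
    ∃ σ : S →+* M, ∀ r, σ (algebraMap R S r) = φ r := by
  let _ : Algebra R M := φ.toAlgebra
  have : FaithfulSMul R M := (faithfulSMul_iff_algebraMap_injective R M).mpr hφ
  have : IsDomain R := (FaithfulSMul.algebraMap_injective R S).isDomain _
  exact ⟨(IsAlgClosed.lift : S →ₐ[R] M).toRingHom, fun r => AlgHom.commutes _ r⟩

/-- Every automorphism of the algebraic numbers extends to a ring endomorphism of `ℂ`. -/
theorem exists_ringHom_extending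
    (ψ : algebraicClosure ℚ ℂ ≃ₐ[ℚ] algebraicClosure ℚ ℂ) :
    ∃ σ : ℂ →+* ℂ, ∀ x : algebraicClosure ℚ ℂ, σ x = (ψ x : ℂ) := by
  let E := algebraicClosure ℚ ℂ
  obtain ⟨s, hs⟩ := exists_isTranscendenceBasis E ℂ
  let R := Algebra.adjoin E (Set.range ((↑) : s → ℂ))
  have : Algebra.IsAlgebraic R ℂ := hs.isAlgebraic
  let e : MvPolynomial s E ≃ₐ[E] R := hs.1.aevalEquiv
  let φ : R →+* ℂ :=
    ((MvPolynomial.aeval ((↑) : s → ℂ)).toRingHom.comp
      (MvPolynomial.map ψ.toRingEquiv.toRingHom)).comp e.symm.toRingEquiv.toRingHom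
  have hφ : Function.Injective φ :=
    ((algebraicIndependent_iff_injective_aeval.1 hs.1).comp
      (MvPolynomial.map_injective _ ψ.injective)).comp e.symm.injective
  obtain ⟨σ, hσ⟩ := exists_ringHom_lift (S := ℂ) φ hφ
  refine ⟨σ, fun x => ?_⟩
  have h1 := hσ (algebraMap E R x)
  simp only [φ, RingHom.comp_apply] at h1
  have h2 : e.symm (algebraMap E R x) = MvPolynomial.C x := e.symm.commutes x
  simpa [h2] using h1

/-- Ring endomorphisms of `ℂ` with prescribed effect on `n`-th roots of unity. -/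
theorem exists_ringHom_pow {n : ℕ} (hn : n ≠ 0) {m : ℕ} (hm : m.Coprime n) :
    ∃ σ : ℂ →+* ℂ, ∀ μ : ℂ, μ ^ n = 1 → σ μ = μ ^ m := by
  have hζ := Complex.isPrimitiveRoot_exp n hn
  set ζ := Complex.exp (2 * Real.pi * Complex.I / n)
  have halg : IsAlgebraic ℚ ζ :=
    (hζ.isIntegral (Nat.pos_of_ne_zero hn)).tower_top.isAlgebraic
  let z : algebraicClosure ℚ ℂ := ⟨ζ, mem_algebraicClosure_iff.mpr halg⟩
  have hz : IsPrimitiveRoot z n :=
    IsPrimitiveRoot.of_map_of_injective (f := (algebraicClosure ℚ ℂ).val)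
      (by exact hζ) (algebraicClosure ℚ ℂ).val.injective
  obtain ⟨ψ, hψ⟩ := minpoly.exists_algEquiv_of_root' (K := ℚ) (x := z ^ m) (y := z)
    ((algebraicClosure.isAlgebraic ℚ ℂ).isAlgebraic z) (by
      have h2 := (hz.pow_of_coprime m hm).isRoot_cyclotomic (Nat.pos_of_ne_zero hn)
      rw [show minpoly ℚ z = cyclotomic n ℚ by
        convert (cyclotomic_eq_minpoly_rat hz (Nat.pos_of_ne_zero hn)).symm using 2
        exact Subsingleton.elim _ _]
      rw [aeval_def, eval₂_eq_eval_map, map_cyclotomic]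
      exact h2.eq_zero)
  obtain ⟨σ, hσ⟩ := exists_ringHom_extending ψ
  refine ⟨σ, fun μ hμ => ?_⟩
  have : NeZero n := ⟨hn⟩
  obtain ⟨i, -, rfl⟩ := hζ.eq_pow_of_pow_eq_one hμ
  have h1 : σ ζ = ζ ^ m := by
    have := hσ z
    rw [hψ] at this
    simpa [z] using this
  rw [map_pow, h1, ← pow_mul, ← pow_mul, mul_comm]

/-- Every ring endomorphism of `ℂ` is a coprime power map on `n`-th roots of unity. -/
theorem exists_pow_of_ringHom (σ : ℂ →+* ℂ) {n : ℕ} (hn : n ≠ 0) :
    ∃ m : ℕ, m.Coprime n ∧ ∀ μ : ℂ, μ ^ n = 1 → σ μ = μ ^ m := by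
  have : NeZero n := ⟨hn⟩
  have hζ := Complex.isPrimitiveRoot_exp n hn
  set ζ := Complex.exp (2 * Real.pi * Complex.I / n)
  have h := hζ.map_of_injective σ.injective
  obtain ⟨m, -, hm⟩ := hζ.eq_pow_of_pow_eq_one h.pow_eq_one
  refine ⟨m, (hζ.pow_iff_coprime (Nat.pos_of_ne_zero hn) m).mp (hm ▸ h), fun μ hμ => ?_⟩
  obtain ⟨i, -, rfl⟩ := hζ.eq_pow_of_pow_eq_one hμ
  rw [map_pow, ← hm, ← pow_mul, ← pow_mul, mul_comm]

/-- An algebraic number fixed by all ring endomorphisms of `ℂ` is rational. -/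
theorem exists_rat_of_fixed {z : ℂ} (hz : IsAlgebraic ℚ z)
    (h : ∀ σ : ℂ →+* ℂ, σ z = z) : ∃ q : ℚ, z = q := by
  have : IsGalois ℚ (algebraicClosure ℚ ℂ) := inferInstance
  let z' : algebraicClosure ℚ ℂ := ⟨z, mem_algebraicClosure_iff.mpr hz⟩
  have hz' : z' ∈ IntermediateField.fixedField (⊤ : Subgroup (Gal((algebraicClosure ℚ ℂ)/ℚ))) := by
    intro ψ
    obtain ⟨σ, hσ⟩ := exists_ringHom_extending ψ.1
    apply Subtype.ext
    exact (hσ z').symm.trans (h σ)
  rw [InfiniteGalois.fixedField_bot] at hz'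
  obtain ⟨q, hq⟩ := IntermediateField.mem_bot.mp hz'
  exact ⟨q, by
    have := congrArg Subtype.val hq
    simpa [z'] using this.symm⟩

/-- An algebraic integer which is rational is an integer. -/
theorem exists_int_of_isIntegral_rat {q : ℚ} (h : IsIntegral ℤ (q : ℂ)) :
    ∃ k : ℤ, q = k := by
  have h' : IsIntegral ℤ q :=
    (isIntegral_algebraMap_iff (A := ℚ) (B := ℂ) (algebraMap ℚ ℂ).injective).mp h
  obtain ⟨k, hk⟩ := IsIntegrallyClosed.isIntegral_iff.mp h'
  exact ⟨k, by simpa using hk.symm⟩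

/-- An algebraic integer fixed by all ring endomorphisms of `ℂ` is an integer. -/
theorem exists_int_of_fixed {z : ℂ} (hz : IsIntegral ℤ z)
    (h : ∀ σ : ℂ →+* ℂ, σ z = z) : ∃ k : ℤ, z = k := by
  obtain ⟨q, rfl⟩ := exists_rat_of_fixed (hz.tower_top.isAlgebraic) h
  obtain ⟨k, rfl⟩ := exists_int_of_isIntegral_rat hz
  exact ⟨k, by simp⟩

section Rep

variable {G : Type*} [Group G] [Finite G] {V : Type*} [AddCommGroup V] [Module ℂ V]
  [FiniteDimensional ℂ V] (ρ : Representation ℂ G V)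

omit [Finite G] in
/-- `σ (χ g) = χ (g ^ m)` when `σ` is the `m`-th power on `|g|`-th roots of unity. -/
theorem map_character (σ : ℂ →+* ℂ) (g : G) {n m : ℕ} (hn : n ≠ 0) (hg : g ^ n = 1)
    (hσ : ∀ μ : ℂ, μ ^ n = 1 → σ μ = μ ^ m) : σ (ρ.character g) = ρ.character (g ^ m) := by
  obtain ⟨b, μ, hμ, -, h⟩ := exists_eigenvalues ρ g hn hg
  rw [h, ← pow_one g, h, map_sum]
  exact Finset.sum_congr rfl fun i _ => by rw [pow_one, hσ _ (hμ i)]

/-- For each endomorphism `σ` of `ℂ` there is `m` prime to `|G|` with `σ (χ g) = χ (g ^ m)`. -/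
theorem exists_coprime_map_character (σ : ℂ →+* ℂ) :
    ∃ m : ℕ, m.Coprime (Nat.card G) ∧ ∀ g : G, σ (ρ.character g) = ρ.character (g ^ m) := by
  obtain ⟨m, hm, hσ⟩ := exists_pow_of_ringHom σ (Nat.card_pos (α := G)).ne'
  exact ⟨m, hm, fun g => map_character ρ σ g Nat.card_pos.ne' pow_card_eq_one' hσ⟩

omit [Finite G] [FiniteDimensional ℂ V] in
theorem bijective_pow_of_coprime {m : ℕ} (hm : m.Coprime (Nat.card G)) :
    Function.Bijective fun g : G => g ^ m :=
  ⟨(powCoprime hm.symm).injective, (powCoprime hm.symm).surjective⟩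

end Rep

section IsChar

variable {G : Type*} [Group G] [Finite G] {χ : G → ℂ}

theorem exists_coprime_map_isCharacter (hχ : Cfsg.IsCharacter G χ) (σ : ℂ →+* ℂ) :
    ∃ m : ℕ, m.Coprime (Nat.card G) ∧ ∀ g : G, σ (χ g) = χ (g ^ m) := by
  obtain ⟨n, ρ, rfl⟩ := hχ
  exact exists_coprime_map_character ρ σ

theorem exists_ringHom_map_isCharacter {m : ℕ} (hm : m.Coprime (Nat.card G)) :
    ∃ σ : ℂ →+* ℂ, ∀ χ : G → ℂ, Cfsg.IsCharacter G χ → ∀ g : G, σ (χ g) = χ (g ^ m) := by
  obtain ⟨σ, hσ⟩ := exists_ringHom_pow (Nat.card_pos (α := G)).ne' hm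
  exact ⟨σ, fun χ ⟨n, ρ, h⟩ g => h ▸ map_character ρ σ g Nat.card_pos.ne' pow_card_eq_one' hσ⟩

end IsChar

end Cfsg.Agent.CharClifford
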