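import Cfsg.Agent.Lib.CharCore.Complete
import Cfsg.Agent.Lib.CharInd.Char

/-!
# Clifford theory: conjugate characters and normal subgroups
-/

namespace Cfsg.Agent.CharClifford

open scoped ComplexConjugate
open Cfsg.Agent.CharCore

universe u

variable {G : Type u} [Group G]

/-- The conjugate `h ↦ θ (x h x⁻¹)` of a function on a normal subgroup. -/
def conjFun (H : Subgroup G) [hN : H.Normal] (x : G) (θ : H → ℂ) : H → ℂ :=
  fun h => θ ⟨x * h * x⁻¹, hN.conj_mem h h.2 x⟩

variable (H : Subgroup G) [hN : H.Normal]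

theorem conjFun_apply (x : G) (θ : H → ℂ) (h : H) :
    conjFun H x θ h = θ ⟨x * h * x⁻¹, hN.conj_mem h h.2 x⟩ := rfl

@[simp] theorem conjFun_one (θ : H → ℂ) : conjFun H 1 θ = θ := by
  funext h; simp [conjFun]

theorem conjFun_conjFun (x y : G) (θ : H → ℂ) :
    conjFun H x (conjFun H y θ) = conjFun H (y * x) θ := by
  funext h
  exact congrArg θ (Subtype.ext (by simp [mul_assoc]))

theorem conjFun_conj (x : G) (θ : H → ℂ) :
    conjFun H x (fun h => conj (θ h)) = fun h => conj (conjFun H x θ h) := rfl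

theorem conjFun_of_isClassFunction {χ : G → ℂ} (hχ : Cfsg.IsClassFunction G χ) (x : G) :
    conjFun H x (fun h : H => χ h) = fun h : H => χ h :=
  funext fun h => hχ h x

theorem conjFun_of_mem {θ : H → ℂ} (hθ : Cfsg.IsClassFunction H θ) {x : G} (hx : x ∈ H) :
    conjFun H x θ = θ :=
  funext fun h => hθ h ⟨x, hx⟩

variable [Finite G]

theorem isIrrCharacter_conjFun {θ : H → ℂ} (hθ : Cfsg.IsIrrCharacter H θ) (x : G) :
    Cfsg.IsIrrCharacter H (conjFun H x θ) :=
  isIrrCharacter_comp_surjective hθ (MulAut.conjNormal (H := H) x).toMonoidHom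
    (MulAut.conjNormal (H := H) x).surjective

omit [Finite G] in
theorem classInner_conjFun [Fintype H] (θ ψ : H → ℂ) (x : G) :
    Cfsg.classInner (conjFun H x θ) (conjFun H x ψ) = Cfsg.classInner θ ψ := by
  unfold Cfsg.classInner
  congr 1
  exact Fintype.sum_equiv (MulAut.conjNormal (H := H) x).toEquiv _ _ fun h => rfl

omit [Finite G] in
theorem indFun_apply_normal [Fintype G] (θ : H → ℂ) (h : H) :
    Cfsg.indFun H θ h = (Nat.card H : ℂ)⁻¹ * ∑ x : G, conjFun H x θ h := by
  rw [CharInd.indFun_apply]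
  congr 1
  refine Fintype.sum_equiv (Equiv.inv G) _ _ fun x => ?_
  have hm : x⁻¹ * (h : G) * x ∈ H := by simpa using hN.conj_mem h h.2 x⁻¹
  rw [CharInd.extendByZero_mem θ hm]
  exact congrArg θ (Subtype.ext (by simp))

omit [Finite G] in
theorem indFun_eq_zero_of_notMem [Fintype G] (θ : H → ℂ) {g : G} (hg : g ∉ H) :
    Cfsg.indFun H θ g = 0 :=
  CharInd.indFun_eq_zero_of_forall_notMem H θ fun x hx => hg <| by
    simpa [mul_assoc] using hN.conj_mem _ hx x

/-- `⟨Ind θ, Ind ψ⟩ = |H|⁻¹ ∑ₓ ⟨θ, ψˣ⟩`. -/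
theorem classInner_indFun_indFun [Fintype G] [Fintype H] (θ ψ : H → ℂ) :
    Cfsg.classInner (Cfsg.indFun H θ) (Cfsg.indFun H ψ) =
      (Nat.card H : ℂ)⁻¹ * ∑ x : G, Cfsg.classInner θ (conjFun H x ψ) := by
  rw [CharInd.classInner_indFun_left H θ (CharInd.isClassFunction_indFun H ψ),
    show (fun h : H => Cfsg.indFun H ψ h) =
      (Nat.card H : ℂ)⁻¹ • ∑ x : G, conjFun H x ψ from funext fun h => by
        simp [indFun_apply_normal H ψ h, Finset.sum_apply],
    classInner_smul_right, classInner_sum_right]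
  simp

/-- Clifford: all constituents of `χ|H` are conjugate. -/
theorem exists_conjFun_eq_of_constituents [Fintype G] [Fintype H] {χ : G → ℂ} {θ ψ : H → ℂ}
    (hχ : Cfsg.IsIrrCharacter G χ) (hθ : Cfsg.IsIrrCharacter H θ) (hψ : Cfsg.IsIrrCharacter H ψ)
    (h1 : Cfsg.classInner (fun h : H => χ h) θ ≠ 0) (h2 : Cfsg.classInner (fun h : H => χ h) ψ ≠ 0) :
    ∃ x : G, ψ = conjFun H x θ := by
  classical
  by_contra hne
  push Not at hne
  have hχc := IsIrrCharacter.isCharacter hχ
  have hind := CharInd.isCharacter_indFun H (IsIrrCharacter.isCharacter hθ)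
  obtain ⟨m, hm⟩ := IsCharacter.exists_sum hind
  have hmχ : (m ⟨χ, hχ⟩ : ℂ) = Cfsg.classInner θ (fun h : H => χ h) := by
    rw [← CharInd.classInner_indFun_left H θ (IsCharacter.isClassFunction hχc), hm,
      classInner_sum_all (fun η => (m η : ℂ)) ⟨χ, hχ⟩]
  have hm0 : m ⟨χ, hχ⟩ ≠ 0 := by
    intro h
    rw [h, Nat.cast_zero] at hmχ
    apply h1
    rw [← CharInd.classInner_swap, ← hmχ, map_zero]
  -- `⟨Ind θ|H, ψ⟩ = 0`
  have hzero : Cfsg.classInner (fun h : H => Cfsg.indFun H θ h) ψ = 0 := by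
    rw [show (fun h : H => Cfsg.indFun H θ h) =
      (Nat.card H : ℂ)⁻¹ • ∑ x : G, conjFun H x θ from funext fun h => by
        simp [indFun_apply_normal H θ h, Finset.sum_apply],
      classInner_smul_left, classInner_sum_left, Finset.sum_eq_zero, mul_zero]
    intro x _
    exact classInner_irr_of_ne (χ := ⟨_, isIrrCharacter_conjFun H hθ x⟩) (ψ := ⟨ψ, hψ⟩)
      fun h => hne x (congrArg Subtype.val h).symm
  have hnat : ∀ η : Cfsg.IrrCharacter G, ∃ k : ℕ,
      Cfsg.classInner (fun h : H => (η : G → ℂ) h) ψ = k := fun η =>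
    IsCharacter.exists_classInner_irr_eq_natCast (isCharacter_restrict (irr_isCharacter η) H)
      ⟨ψ, hψ⟩
  choose k hk using hnat
  have hres : (fun h : H => Cfsg.indFun H θ h) =
      ∑ η : Cfsg.IrrCharacter G, (m η : ℂ) • fun h : H => (η : G → ℂ) h := by
    funext h
    simp [hm, Finset.sum_apply]
  rw [hres, classInner_sum_left] at hzero
  simp only [classInner_smul_left, hk] at hzero
  have h' : ∑ η, m η * k η = 0 := by exact_mod_cast hzero
  have := Finset.sum_eq_zero_iff.mp h' ⟨χ, hχ⟩ (Finset.mem_univ _)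
  rcases mul_eq_zero.mp this with h | h
  · exact hm0 h
  · exact h2 (by rw [hk ⟨χ, hχ⟩, h, Nat.cast_zero])

omit [Finite G] in
theorem classInner_restrict_conjFun [Fintype H] {χ : G → ℂ} (hχ : Cfsg.IsClassFunction G χ)
    (θ : H → ℂ) (x : G) :
    Cfsg.classInner (fun h : H => χ h) (conjFun H x θ) =
      Cfsg.classInner (fun h : H => χ h) θ := by
  conv_lhs => rw [← conjFun_of_isClassFunction H hχ x]
  exact classInner_conjFun H _ θ x

/-- Every character of positive degree has an irreducible constituent. -/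
theorem exists_constituent {G : Type u} [Group G] [Fintype G] {χ : G → ℂ}
    (hχ : Cfsg.IsCharacter G χ) (h0 : χ 1 ≠ 0) :
    ∃ θ : Cfsg.IrrCharacter G, Cfsg.classInner χ θ ≠ 0 := by
  by_contra h
  push Not at h
  apply h0
  rw [Cfsg.Agent.CharCore.IsCharacter.eq_sum_classInner hχ]
  simp [h]

open Classical in
/-- The conjugates of an irreducible character of a normal subgroup. -/
noncomputable def conjOrbit [Fintype G] (θ : H → ℂ) : Finset (H → ℂ) :=
  Finset.univ.image fun x : G => conjFun H x θ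

theorem mem_conjOrbit [Fintype G] {θ ψ : H → ℂ} :
    ψ ∈ conjOrbit H θ ↔ ∃ x : G, conjFun H x θ = ψ := by
  simp [conjOrbit]

/-- Clifford's theorem: `χ|H` is a positive multiple of the sum of the conjugates of a
constituent. -/
theorem clifford_restrict [Fintype G] [Fintype H] {χ : G → ℂ} (hχ : Cfsg.IsIrrCharacter G χ) :
    ∃ (θ : H → ℂ) (e : ℕ), Cfsg.IsIrrCharacter H θ ∧ 0 < e ∧
      Cfsg.classInner (fun h : H => χ h) θ = e ∧
      (fun h : H => χ h) = (e : ℂ) • ∑ ψ ∈ conjOrbit H θ, ψ := by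
  classical
  have hχc := IsIrrCharacter.isCharacter hχ
  have hres := isCharacter_restrict hχc H
  obtain ⟨θ, hθ⟩ := exists_constituent hres (by
    change χ ((1 : H) : G) ≠ 0
    rw [OneMemClass.coe_one]
    exact irr_apply_one_ne_zero ⟨χ, hχ⟩)
  obtain ⟨e, he⟩ := IsCharacter.exists_classInner_irr_eq_natCast hres θ
  have hepos : 0 < e := Nat.pos_of_ne_zero fun h => hθ (by rw [he, h, Nat.cast_zero])
  refine ⟨θ, e, θ.2, hepos, he, ?_⟩
  have horb : ∀ η : Cfsg.IrrCharacter H, Cfsg.classInner (fun h : H => χ h) η =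
      if (η : H → ℂ) ∈ conjOrbit H (θ : H → ℂ) then (e : ℂ) else 0 := by
    intro η
    split_ifs with hη
    · obtain ⟨x, hx⟩ := (mem_conjOrbit H).mp hη
      rw [← hx, classInner_restrict_conjFun H (IsCharacter.isClassFunction hχc), he]
    · by_contra hne
      obtain ⟨x, hx⟩ := exists_conjFun_eq_of_constituents H hχ θ.2 η.2 hθ hne
      exact hη ((mem_conjOrbit H).mpr ⟨x, hx.symm⟩)
  conv_lhs => rw [Cfsg.Agent.CharCore.IsCharacter.eq_sum_classInner hres]
  simp only [horb, ite_smul, zero_smul]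
  rw [← Finset.sum_filter, Finset.smul_sum]
  refine Finset.sum_bij (fun η _ => (η : H → ℂ)) (fun η hη => (Finset.mem_filter.mp hη).2)
    (fun a _ b _ h => Subtype.ext h) (fun ψ hψ => ?_) fun η _ => rfl
  obtain ⟨x, rfl⟩ := (mem_conjOrbit H).mp hψ
  exact ⟨⟨_, isIrrCharacter_conjFun H θ.2 x⟩, Finset.mem_filter.mpr ⟨Finset.mem_univ _, hψ⟩, rfl⟩

end Cfsg.Agent.CharClifford
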