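import Mathlib.RepresentationTheory.Maschke
import Mathlib.GroupTheory.Commutator.Basic
import Cfsg.Agent.Lib.CharCore.Rep
import Cfsg.Agent.Lib.CharClifford.Central

/-!
# Irreducible representations separate points; abelian subgroups; small degrees
-/

namespace Cfsg.Agent.CharClifford

open Module Cfsg.Agent.CharCore

universe u v

variable {G : Type u} [Group G] [Finite G]

/-- An element acting trivially in every irreducible representation is trivial in every
representation. -/
theorem eq_one_of_forall_irreducible {V : Type v} [AddCommGroup V] [Module ℂ V]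
    [FiniteDimensional ℂ V] (g : G)
    (h : ∀ (W : Type v) [AddCommGroup W] [Module ℂ W] [FiniteDimensional ℂ W]
      (σ : Representation ℂ G W), σ.IsIrreducible → σ g = 1)
    (ρ : Representation ℂ G V) : ρ g = 1 := by
  refine rep_induction (motive := fun V _ _ ρ => ρ g = 1) ?_ (fun W _ _ _ σ hσ => h W σ hσ) ?_ V ρ
  · intro W _ _ _ σ hW
    exact LinearMap.ext fun v => Subsingleton.elim _ _
  · intro W _ _ _ σ S T hST _ _ hS hT
    refine LinearMap.ext fun v => ?_
    obtain ⟨a, ha, b, hb, rfl⟩ := Submodule.mem_sup.mp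
      (hST.sup_eq_top ▸ Submodule.mem_top : v ∈ S.toSubmodule ⊔ T.toSubmodule)
    have ha' := congr((($hS) ⟨a, ha⟩ : W))
    have hb' := congr((($hT) ⟨b, hb⟩ : W))
    change σ g a = a at ha'
    change σ g b = b at hb'
    simp [map_add, ha', hb']

/-- The left regular representation. -/
noncomputable def regRep (G : Type u) [Group G] : Representation ℂ G (G → ℂ) where
  toFun g := LinearMap.funLeft ℂ ℂ (g⁻¹ * ·)
  map_one' := by ext; simp [LinearMap.funLeft]
  map_mul' a b := by ext; simp [LinearMap.funLeft, mul_assoc]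

theorem regRep_injective : Function.Injective (regRep G) := by
  classical
  intro a b h
  have := congrFun (LinearMap.congr_fun h (Pi.single 1 (1 : ℂ))) b
  simp [regRep, LinearMap.funLeft, Pi.single_apply, inv_mul_eq_one] at this
  exact this

/-- Irreducible characters separate elements from `1`. -/
theorem exists_irreducible_ne_one {g : G} (hg : g ≠ 1) :
    ∃ (n : ℕ) (ρ : Representation ℂ G (Fin n → ℂ)), ρ.IsIrreducible ∧ ρ g ≠ 1 := by
  by_contra hc
  push Not at hc
  have := Fintype.ofFinite G
  apply hg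
  apply regRep_injective
  rw [map_one]
  refine eq_one_of_forall_irreducible g (fun W _ _ _ σ hσ => ?_) (regRep G)
  let e := (Module.finBasis ℂ W).equivFun
  have h1 := hc _ (transport σ e) (isIrreducible_of_equiv (transportEquiv σ e) hσ)
  refine LinearMap.ext fun v => e.injective ?_
  have := congrArg (fun f => f (e v)) h1
  simpa [transport, LinearEquiv.conj_apply] using this

/-- A representation of an abelian group has a common eigenvector. -/
theorem exists_common_eigenvector {V : Type v} [AddCommGroup V] [Module ℂ V]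
    [FiniteDimensional ℂ V] [IsMulCommutative G] (ρ : Representation ℂ G V) [Nontrivial V] :
    ∃ v : V, v ≠ 0 ∧ ∀ g, ∃ c : ℂ, ρ g v = c • v := by
  have hV : Nontrivial V := inferInstance
  revert hV
  refine rep_induction (motive := fun V _ _ ρ =>
    Nontrivial V → ∃ v : V, v ≠ 0 ∧ ∀ g, ∃ c : ℂ, ρ g v = c • v) ?_ ?_ ?_ V ρ
  · intro W _ _ _ σ hW hN
    exact absurd hW (not_subsingleton W)
  · intro W _ _ _ σ hσ hN
    obtain ⟨v, hv⟩ := exists_ne (0 : W)
    refine ⟨v, hv, fun g => ?_⟩
    obtain ⟨c, hc⟩ := (finrank_eq_one_iff_of_nonzero' v hv).mp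
      (Representation.IsIrreducible.finrank_eq_one_of_isMulCommutative σ) (σ g v)
    exact ⟨c, hc.symm⟩
  · intro W _ _ _ σ S T _ hS _ ihS _ _
    obtain ⟨⟨v, hvS⟩, hv, h⟩ := ihS ((Submodule.nontrivial_iff_ne_bot).mpr hS)
    refine ⟨v, fun e => hv (Subtype.ext e), fun g => ?_⟩
    obtain ⟨c, hc⟩ := h g
    exact ⟨c, congr((($hc) : W))⟩

/-- An irreducible representation has degree at most the index of any abelian subgroup. -/
theorem finrank_le_index_of_commute {V : Type v} [AddCommGroup V] [Module ℂ V]
    [FiniteDimensional ℂ V] (ρ : Representation ℂ G V) [ρ.IsIrreducible] (A : Subgroup G)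
    (hA : ∀ a ∈ A, ∀ b ∈ A, a * b = b * a) : finrank ℂ V ≤ A.index := by
  have : IsMulCommutative A := ⟨⟨fun a b => Subtype.ext (hA a a.2 b b.2)⟩⟩
  have : Nontrivial V := Module.nontrivial_of_finrank_pos (finrank_pos_of_irreducible ρ)
  obtain ⟨v, hv, hc⟩ := exists_common_eigenvector (ρ.comp A.subtype)
  let f : G ⧸ A → V := fun q => ρ q.out v
  have hf : ∀ g, ρ g v ∈ Submodule.span ℂ (Set.range f) := by
    intro g
    obtain ⟨a, ha⟩ := QuotientGroup.mk_out_eq_mul A g
    obtain ⟨c, hc⟩ := hc a⁻¹
    have hg : g = (g : G ⧸ A).out * ((a⁻¹ : A) : G) := by rw [ha]; simp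
    change ρ ((a⁻¹ : A) : G) v = c • v at hc
    rw [hg, map_mul, Module.End.mul_apply, hc, map_smul]
    exact Submodule.smul_mem _ _ (Submodule.subset_span ⟨_, rfl⟩)
  let W : Subrepresentation ρ :=
    { toSubmodule := Submodule.span ℂ (Set.range fun g => ρ g v)
      apply_mem_toSubmodule := fun g w hw => by
        induction hw using Submodule.span_induction with
        | mem x hx =>
          obtain ⟨h, rfl⟩ := hx
          exact Submodule.subset_span ⟨g * h, by simp⟩
        | zero => simp
        | add x y _ _ hx hy => rw [map_add]; exact add_mem hx hy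
        | smul c x _ hx => rw [map_smul]; exact Submodule.smul_mem _ _ hx }
  rcases IsSimpleOrder.eq_bot_or_eq_top W with h | h
  · exfalso
    have : v ∈ W.toSubmodule := Submodule.subset_span ⟨1, by simp⟩
    rw [h] at this
    exact hv ((Submodule.mem_bot ℂ).mp this)
  · have htop : Submodule.span ℂ (Set.range f) = ⊤ := by
      rw [eq_top_iff]
      calc (⊤ : Submodule ℂ V) = W.toSubmodule := by rw [h]; rfl
        _ ≤ _ := Submodule.span_le.mpr (by rintro _ ⟨g, rfl⟩; exact hf g)
    have := Fintype.ofFinite (G ⧸ A)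
    rw [Subgroup.index, Nat.card_eq_fintype_card, ← finrank_top ℂ V, ← htop]
    exact finrank_range_le_card f

/-- Irreducible representations of degree one send commutators to one. -/
theorem commute_of_finrank_eq_one {W : Type v} [AddCommGroup W] [Module ℂ W]
    (σ : Representation ℂ G W) (h : finrank ℂ W = 1) (a b : G) : σ a * σ b = σ b * σ a := by
  obtain ⟨v, hv⟩ := finrank_eq_one_iff'.mp h
  obtain ⟨x, hx⟩ := hv.2 (σ a v)
  obtain ⟨y, hy⟩ := hv.2 (σ b v)
  refine LinearMap.ext fun w => ?_
  obtain ⟨c, rfl⟩ := hv.2 w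
  simp [← hx, ← hy, map_smul, smul_smul, mul_comm x y]

/-- If all prime divisors of `|G|` exceed the degree, the image is abelian. -/
theorem map_commute_of_finrank_lt {V : Type v} [AddCommGroup V] [Module ℂ V]
    [FiniteDimensional ℂ V] (ρ : Representation ℂ G V)
    (hdeg : ∀ p : ℕ, p.Prime → p ∣ Nat.card G → finrank ℂ V < p) (a b : G) :
    ρ a * ρ b = ρ b * ρ a := by
  refine rep_induction (motive := fun V _ _ ρ =>
    (∀ p : ℕ, p.Prime → p ∣ Nat.card G → finrank ℂ V < p) → ρ a * ρ b = ρ b * ρ a)
      ?_ ?_ ?_ V ρ hdeg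
  · intro W _ _ _ σ hW _
    exact LinearMap.ext fun v => Subsingleton.elim _ _
  · intro W _ _ _ σ hσ hd
    refine commute_of_finrank_eq_one σ ?_ a b
    by_contra hne
    obtain ⟨p, hp, hpd⟩ := Nat.exists_prime_and_dvd hne
    have h1 := hd p hp (hpd.trans (finrank_dvd_card σ))
    have h2 := Nat.le_of_dvd (finrank_pos_of_irreducible σ) hpd
    omega
  · intro W _ _ _ σ S T hST _ _ hS hT hd
    have hS' := hS fun p hp hpd => (Submodule.finrank_le _).trans_lt (hd p hp hpd)
    have hT' := hT fun p hp hpd => (Submodule.finrank_le _).trans_lt (hd p hp hpd)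
    refine LinearMap.ext fun v => ?_
    obtain ⟨x, hx, y, hy, rfl⟩ := Submodule.mem_sup.mp
      (hST.sup_eq_top ▸ Submodule.mem_top : v ∈ S.toSubmodule ⊔ T.toSubmodule)
    have hx' := congr((($hS') ⟨x, hx⟩ : W))
    have hy' := congr((($hT') ⟨y, hy⟩ : W))
    change σ a (σ b x) = σ b (σ a x) at hx'
    change σ a (σ b y) = σ b (σ a y) at hy'
    simp [map_add, Module.End.mul_apply, hx', hy']

end Cfsg.Agent.CharClifford
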