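import Mathlib.GroupTheory.PGroup
import Mathlib.GroupTheory.Sylow
import Mathlib.GroupTheory.Solvable
import Mathlib.Algebra.Group.ConjFinite
import Mathlib.GroupTheory.GroupAction.ConjAct
import Cfsg.Agent.Lib.CharClifford.Galois
import Cfsg.Agent.Lib.CharClifford.Separation
import Cfsg.Agent.Lib.CharCore.Complete

/-!
# Burnside's vanishing lemma and conjugacy classes of prime-power size
-/

namespace Cfsg.Agent.CharClifford

open Module

section Vanishing

variable {G : Type*} [Group G] [Finite G] {V : Type*} [AddCommGroup V] [Module ℂ V]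
  [FiniteDimensional ℂ V] (ρ : Representation ℂ G V) [ρ.IsIrreducible]

theorem card_class_filter [Fintype G] (g : G) [DecidablePred fun x : G => ConjClasses.mk x = ConjClasses.mk g] :
    (Finset.univ.filter (fun x => ConjClasses.mk x = ConjClasses.mk g)).card =
      Nat.card (ConjClasses.mk g).carrier := by
  rw [← Nat.card_eq_finsetCard]
  exact Nat.card_congr (Equiv.subtypeEquivRight fun x => by
    simp [ConjClasses.mem_carrier_iff_mk_eq])

/-- Burnside: if the class size of `g` is prime to the degree, `χ g = 0` or `ρ g` is scalar. -/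
theorem character_eq_zero_or_scalar (g : G)
    (hg : (Nat.card (ConjClasses.mk g).carrier).Coprime (finrank ℂ V)) :
    ρ.character g = 0 ∨ ∃ c : ℂ, ρ g = c • 1 := by
  classical
  have := Fintype.ofFinite G
  have hdpos := finrank_pos_of_irreducible ρ
  set d := finrank ℂ V
  have hd : (d : ℂ) ≠ 0 := by exact_mod_cast hdpos.ne'
  set K := Nat.card (ConjClasses.mk g).carrier
  set x : ℂ := ρ.character g / d
  have hω : omega ρ (ConjClasses.mk g) = K * x := by
    have h := omega_mul_finrank ρ g
    rw [card_class_filter] at h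
    change _ = _ * (ρ.character g / d)
    rw [← mul_div_assoc, eq_div_iff hd]
    exact h
  have hx : IsIntegral ℤ x := by
    obtain ⟨a, b, hab⟩ := (Nat.isCoprime_iff_coprime.mpr hg : IsCoprime (K : ℤ) (d : ℤ))
    have he : x = (a : ℂ) * omega ρ (ConjClasses.mk g) + (b : ℂ) * ρ.character g := by
      have hab' : (a : ℂ) * K + (b : ℂ) * d = 1 := by exact_mod_cast hab
      have hgx : ρ.character g = d * x := by
        change _ = _ * (ρ.character g / d)
        field_simp
      rw [hω, hgx]
      linear_combination (-x) * hab'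
    rw [he]
    exact ((isIntegral_algebraMap (x := a)).mul (isIntegral_omega ρ _)).add
      ((isIntegral_algebraMap (x := b)).mul (isIntegral_character ρ g))
  set n := Nat.card G with hn
  have hnpos : 0 < n := Nat.card_pos
  let y : (ZMod n)ˣ → ℂ := fun u => ρ.character (g ^ (u : ZMod n).val) / d
  have : NeZero n := ⟨hnpos.ne'⟩
  have hpow : ∀ m : ℕ, g ^ (m : ZMod n).val = g ^ m := fun m => by
    rw [ZMod.val_natCast]
    exact pow_mod_natCard g m
  have hy1 : y 1 = x := by
    change ρ.character (g ^ ((1 : (ZMod n)ˣ) : ZMod n).val) / d = ρ.character g / d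
    rw [Units.val_one, ← Nat.cast_one, hpow, pow_one]
  have hσy : ∀ (σ : ℂ →+* ℂ), ∃ v : (ZMod n)ˣ, ∀ u, σ (y u) = y (u * v) := by
    intro σ
    obtain ⟨m, hm, hσ⟩ := exists_coprime_map_character ρ σ
    refine ⟨ZMod.unitOfCoprime m hm, fun u => ?_⟩
    simp only [y, map_div₀, map_natCast, hσ, ← pow_mul, Units.val_mul, ZMod.coe_unitOfCoprime]
    congr 2
    rw [← hpow, Nat.cast_mul, ZMod.natCast_val, ZMod.cast_id', id]
  have hyint : ∀ u, IsIntegral ℤ (y u) := by
    intro u
    obtain ⟨σ, hσ⟩ := exists_ringHom_pow hnpos.ne'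
      (m := (u : ZMod n).val) (ZMod.val_coe_unit_coprime u)
    have : y u = σ x := by
      rw [map_div₀, map_natCast, map_character ρ σ g hnpos.ne' pow_card_eq_one' hσ]
    rw [this]
    exact hx.map σ.toIntAlgHom
  have hnorm : ∀ u, ‖y u‖ ≤ 1 := by
    intro u
    rw [norm_div, Complex.norm_natCast, div_le_one (by exact_mod_cast hdpos)]
    exact norm_character_le ρ _
  rcases eq_or_lt_of_le (hy1 ▸ hnorm 1) with h | h
  · right
    refine exists_scalar_of_norm_character_eq ρ g ?_
    rw [norm_div, Complex.norm_natCast, div_eq_one_iff_eq (by exact_mod_cast hdpos.ne')] at h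
    exact h
  · left
    set P := ∏ u, y u
    obtain ⟨k, hk⟩ := exists_int_of_fixed (IsIntegral.prod _ fun u _ => hyint u) (z := P)
      (fun σ => by
        obtain ⟨v, hv⟩ := hσy σ
        rw [map_prod, Finset.prod_congr rfl fun u _ => hv u]
        exact Fintype.prod_equiv (Equiv.mulRight v) _ _ fun u => rfl)
    have hP : ‖P‖ < 1 := by
      rw [norm_prod, ← Finset.mul_prod_erase _ _ (Finset.mem_univ (1 : (ZMod n)ˣ)), hy1]
      refine lt_of_le_of_lt (mul_le_of_le_one_right (norm_nonneg _) ?_) h
      exact Finset.prod_le_one (fun u _ => norm_nonneg _) fun u _ => hnorm u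
    have hk0 : k = 0 := by
      rw [hk, Complex.norm_intCast, ← Int.cast_abs] at hP
      exact Int.abs_lt_one_iff.mp (by exact_mod_cast hP)
    obtain ⟨u, -, hu⟩ := Finset.prod_eq_zero_iff.mp (show P = 0 by rw [hk, hk0, Int.cast_zero])
    obtain ⟨σ, hσ⟩ := exists_ringHom_pow hnpos.ne'
      (m := (u : ZMod n).val) (ZMod.val_coe_unit_coprime u)
    have h0 : σ (ρ.character g) = 0 := by
      rw [map_character ρ σ g hnpos.ne' pow_card_eq_one' hσ]
      simpa [y, hd] using hu
    exact σ.injective (h0.trans (map_zero σ).symm)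

end Vanishing

/-- A non-abelian simple group has no class of prime-power size other than the trivial one. -/
theorem card_carrier_ne_prime_pow {G : Type*} [Group G] [Finite G] [IsSimpleGroup G]
    (hnab : ¬ ∀ a b : G, a * b = b * a) {g : G} (hg : g ≠ 1) (p k : ℕ) (hp : p.Prime) :
    Nat.card (ConjClasses.mk g).carrier ≠ p ^ k := by
  classical
  intro hK
  have := Fintype.ofFinite G
  have hcentre : Subgroup.center G = ⊥ :=
    ((inferInstance : (Subgroup.center G).Normal).eq_bot_or_eq_top).resolve_right fun h =>
      hnab fun a b => (Subgroup.mem_center_iff.mp (h ▸ Subgroup.mem_top b) a)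
  let one : Cfsg.IrrCharacter G := ⟨1, Cfsg.Agent.CharCore.isIrrCharacter_one⟩
  have key : ∀ χ : Cfsg.IrrCharacter G, χ ≠ one → ∃ z : ℂ, IsIntegral ℤ z ∧
      (χ : G → ℂ) 1 * (χ : G → ℂ) g = (p : ℂ) * z := by
    rintro ⟨_, n, ρ, hρ, rfl⟩ hne
    by_cases hpd : p ∣ n
    · obtain ⟨c, hc⟩ := hpd
      refine ⟨(c : ℂ) * ρ.character g,
        (isIntegral_algebraMap (R := ℤ) (x := (c : ℤ))).mul (isIntegral_character ρ g), ?_⟩
      simp only [Representation.char_one, Module.finrank_fin_fun, hc, Nat.cast_mul, mul_assoc]
    · refine ⟨0, isIntegral_zero, ?_⟩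
      rcases character_eq_zero_or_scalar ρ g (by
        rw [hK, Module.finrank_fin_fun]
        exact ((Nat.Prime.coprime_iff_not_dvd hp).mpr hpd).pow_left k) with h | ⟨c, hc⟩
      · simp [h]
      · exfalso
        rcases (MonoidHom.normal_ker ρ).eq_bot_or_eq_top with hker | hker
        · have hinj : Function.Injective ρ := (MonoidHom.ker_eq_bot_iff ρ).mp hker
          have : g ∈ Subgroup.center G := Subgroup.mem_center_iff.mpr fun a => hinj (by
            rw [map_mul, map_mul, hc, mul_smul_comm, mul_one, smul_mul_assoc, one_mul])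
          rw [hcentre] at this
          exact hg (Subgroup.mem_bot.mp this)
        · apply hne
          have h1 : ∀ a, ρ a = 1 := fun a => MonoidHom.mem_ker.mp (hker ▸ Subgroup.mem_top a)
          -- a trivial irreducible representation has degree one
          have hle : finrank ℂ (Fin n → ℂ) ≤ 1 := by
            have h2 := finrank_le_index_of_commute ρ (⊤ : Subgroup G)
            by_contra hlt
            obtain ⟨v, hv⟩ := Module.finrank_pos_iff_exists_ne_zero.mp
              (finrank_pos_of_irreducible ρ)
            let W : Subrepresentation ρ :=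
              ⟨Submodule.span ℂ {v}, fun a w hw => by simpa [h1 a] using hw⟩
            rcases IsSimpleOrder.eq_bot_or_eq_top W with h | h
            · exact hv (Submodule.span_singleton_eq_bot.mp
                (congrArg Subrepresentation.toSubmodule h))
            · refine hlt (finrank_le_one v fun w => Submodule.mem_span_singleton.mp ?_)
              rw [show Submodule.span ℂ {v} = ⊤ from congrArg Subrepresentation.toSubmodule h]
              exact Submodule.mem_top
          have heq := le_antisymm hle (finrank_pos_of_irreducible ρ)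
          refine Subtype.ext (funext fun a => ?_)
          simp only [one, Pi.one_apply, Representation.character, h1 a, LinearMap.trace_one, heq,
            Nat.cast_one]
  have hsum := Cfsg.Agent.CharCore.sum_degree_mul_apply (G := G) g
  rw [if_neg hg, ← Finset.add_sum_erase _ _ (Finset.mem_univ one)] at hsum
  choose z hz using key
  have h2 : ∑ χ ∈ (Finset.univ : Finset (Cfsg.IrrCharacter G)).erase one,
      (χ : G → ℂ) 1 * (χ : G → ℂ) g =
      (p : ℂ) * ∑ χ ∈ (Finset.univ.erase one).attach, z χ.1 (Finset.mem_erase.mp χ.2).1 := by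
    rw [Finset.mul_sum, ← Finset.sum_attach]
    exact Finset.sum_congr rfl fun χ _ => (hz χ.1 _).2
  rw [h2] at hsum
  set S := ∑ χ ∈ (Finset.univ.erase one).attach, z χ.1 (Finset.mem_erase.mp χ.2).1
  have hS : IsIntegral ℤ S := IsIntegral.sum _ fun χ _ => (hz χ.1 _).1
  have hdvd : p ∣ 1 := dvd_of_mul_isIntegral hS.neg (by
    simp only [one, Pi.one_apply, mul_one] at hsum
    push_cast
    linear_combination hsum)
  exact hp.not_dvd_one hdvd

/-- Burnside's `p ^ a q ^ b` theorem for simple groups: some prime-power class exists. -/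
theorem isSolvable_of_two_prime_divisors_simple {G : Type*} [Group G] [Finite G] [IsSimpleGroup G]
    {p q a b : ℕ} (hp : p.Prime) (hq : q.Prime) (hcard : Nat.card G = p ^ a * q ^ b) :
    ∀ x y : G, x * y = y * x := by
  classical
  by_contra hnab
  have := Fintype.ofFinite G
  have hcentre : Subgroup.center G = ⊥ :=
    ((inferInstance : (Subgroup.center G).Normal).eq_bot_or_eq_top).resolve_right fun h =>
      hnab fun a b => (Subgroup.mem_center_iff.mp (h ▸ Subgroup.mem_top b) a)
  have : Fact p.Prime := ⟨hp⟩
  let P : Sylow p G := default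
  -- a non-trivial element centralised by a Sylow subgroup
  obtain ⟨g, hg1, hgc⟩ : ∃ g : G, g ≠ 1 ∧ P.1 ≤ Subgroup.centralizer {g} := by
    rcases subsingleton_or_nontrivial P.1 with hs | hnt
    · obtain ⟨g, hg⟩ := exists_ne (1 : G)
      exact ⟨g, hg, fun x hx => by
        rw [show x = 1 from congrArg Subtype.val (Subsingleton.elim (⟨x, hx⟩ : P.1) 1)]
        exact Subgroup.one_mem _⟩
    · have := (P.2.center_nontrivial)
      obtain ⟨z, hz⟩ := exists_ne (1 : Subgroup.center P.1)
      refine ⟨((z : P.1) : G), fun h => hz (Subtype.ext (Subtype.ext h)), fun x hx => ?_⟩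
      rw [Subgroup.mem_centralizer_singleton_iff]
      exact congrArg Subtype.val (Subgroup.mem_center_iff.mp z.2 ⟨x, hx⟩)
  have hidx : Nat.card (ConjClasses.mk g).carrier = (Subgroup.centralizer ({g} : Set G)).index := by
    rw [← ConjAct.orbit_eq_carrier_conjClasses g, Nat.card_coe_set_eq, ← MulAction.index_stabilizer,
      ConjAct.stabilizer_eq_centralizer]
    rfl
  have hdvd : (Subgroup.centralizer ({g} : Set G)).index ∣ P.1.index :=
    Subgroup.index_dvd_of_le hgc
  have hcop : (P.1.index).Coprime p := (Nat.Prime.coprime_iff_not_dvd hp).mpr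
    P.not_dvd_index |>.symm
  have hq' : (Subgroup.centralizer ({g} : Set G)).index ∣ q ^ b := by
    have h1 : (Subgroup.centralizer ({g} : Set G)).index ∣ p ^ a * q ^ b :=
      hcard ▸ Subgroup.index_dvd_card _
    exact (((hcop.coprime_dvd_left hdvd).pow_right a)).dvd_of_dvd_mul_left h1
  obtain ⟨k, -, hk⟩ := (Nat.dvd_prime_pow hq).mp hq'
  exact card_carrier_ne_prime_pow hnab hg1 q k hq (hidx.trans hk)

end Cfsg.Agent.CharClifford
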